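import Mathlib

/-! Extending a homomorphism from a normal subgroup with cyclic quotient. -/

set_option autoImplicit false

namespace Cfsg.Agent.H6

variable {G Γ : Type*} [Group G] [Group Γ]

/-- compatible pairs (automorphism of `N`, element of `Γ`) -/
def compatPairs {N : Type*} [Group N] (R : N →* Γ) : Subgroup (MulAut N × Γ) where
  carrier := {x | ∀ n, x.2 * R n = R (x.1 n) * x.2}
  one_mem' := by intro n; simp
  mul_mem' := by
    intro x y hx hy n
    show x.2 * y.2 * R n = R (x.1 (y.1 n)) * (x.2 * y.2)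
    rw [mul_assoc, hy n, ← mul_assoc, hx, mul_assoc]
  inv_mem' := by
    intro x hx n
    show x.2⁻¹ * R n = R (x.1⁻¹ n) * x.2⁻¹
    have h := hx (x.1⁻¹ n)
    rw [MulAut.apply_inv_self] at h
    rw [inv_mul_eq_iff_eq_mul, ← mul_assoc, h, mul_inv_cancel_right]

theorem compat_zpow {N : Type*} [Group N] (R : N →* Γ) (c : MulAut N) (a : Γ)
    (h : ∀ n, a * R n = R (c n) * a) (i : ℤ) (n : N) : a ^ i * R n = R ((c ^ i) n) * a ^ i := by
  have hmem : ((c, a) : MulAut N × Γ) ∈ compatPairs R := h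
  have := (compatPairs R).zpow_mem hmem i n
  simpa using this

theorem exists_extension_of_cyclic (N : Subgroup G) [hN : N.Normal] (g₀ : G)
    (hgen : ∀ x : G ⧸ N, x ∈ Subgroup.zpowers (QuotientGroup.mk g₀ : G ⧸ N)) (R : N →* Γ) (a : Γ)
    (ha : ∀ n : N, a * R n = R (MulAut.conjNormal g₀ n) * a)
    (hpow : ∀ (i : ℤ) (hi : g₀ ^ i ∈ N), a ^ i = R ⟨g₀ ^ i, hi⟩) :
    ∃ F : G →* Γ, ∀ n : N, F n = R n := by
  classical
  let c : MulAut N := MulAut.conjNormal g₀
  let φ : Multiplicative ℤ →* MulAut N := zpowersHom (MulAut N) c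
  have hφ : ∀ z : Multiplicative ℤ, φ z = c ^ (Multiplicative.toAdd z) := fun z => rfl
  have hcz : ∀ (i : ℤ) (n : N), (((c ^ i) n : N) : G) = g₀ ^ i * n * (g₀ ^ i)⁻¹ := by
    intro i n
    have : c ^ i = MulAut.conjNormal (g₀ ^ i) := (map_zpow (MulAut.conjNormal (H := N)) g₀ i).symm
    rw [this, MulAut.conjNormal_apply]
  let π : N ⋊[φ] Multiplicative ℤ →* G :=
    SemidirectProduct.lift N.subtype (zpowersHom G g₀) (by
      intro z
      ext n
      simp only [MonoidHom.comp_apply, MulEquiv.coe_toMonoidHom, Subgroup.subtype_apply,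
        MulAut.conj_apply]
      rw [hφ, hcz]
      rfl)
  let Rr : N ⋊[φ] Multiplicative ℤ →* Γ :=
    SemidirectProduct.lift R (zpowersHom Γ a) (by
      intro z
      ext n
      simp only [MonoidHom.comp_apply, MulEquiv.coe_toMonoidHom, MulAut.conj_apply]
      rw [hφ]
      have := compat_zpow R c a ha (Multiplicative.toAdd z) n
      show R ((c ^ Multiplicative.toAdd z) n) =
        a ^ Multiplicative.toAdd z * R n * (a ^ Multiplicative.toAdd z)⁻¹
      rw [this, mul_inv_cancel_right])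
  have hπ : ∀ x : N ⋊[φ] Multiplicative ℤ, π x = (x.1 : G) * g₀ ^ (Multiplicative.toAdd x.2) :=
    fun x => rfl
  have hRr : ∀ x : N ⋊[φ] Multiplicative ℤ, Rr x = R x.1 * a ^ (Multiplicative.toAdd x.2) :=
    fun x => rfl
  have hsurj : Function.Surjective π := by
    intro g
    obtain ⟨i, hi⟩ := Subgroup.mem_zpowers_iff.mp (hgen (QuotientGroup.mk g))
    have h1 : g * (g₀ ^ i)⁻¹ ∈ N := by
      have h2 : (QuotientGroup.mk (g * (g₀ ^ i)⁻¹) : G ⧸ N) = 1 := by
        rw [QuotientGroup.mk_mul, QuotientGroup.mk_inv, QuotientGroup.mk_zpow, hi, mul_inv_cancel]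
      exact (QuotientGroup.eq_one_iff _).mp h2
    refine ⟨⟨⟨g * (g₀ ^ i)⁻¹, h1⟩, Multiplicative.ofAdd i⟩, ?_⟩
    rw [hπ]
    simp
  have hker : π.ker ≤ Rr.ker := by
    intro x hx
    rw [MonoidHom.mem_ker, hπ] at hx
    rw [MonoidHom.mem_ker, hRr]
    set i := Multiplicative.toAdd x.2
    have h1 : g₀ ^ i = ((x.1⁻¹ : N) : G) := by
      rw [Subgroup.coe_inv]
      exact (inv_eq_of_mul_eq_one_right hx).symm
    have hi : g₀ ^ i ∈ N := by rw [h1]; exact (x.1⁻¹).2
    rw [hpow i hi]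
    have h2 : (⟨g₀ ^ i, hi⟩ : N) = x.1⁻¹ := Subtype.ext h1
    rw [h2, ← map_mul, mul_inv_cancel, map_one]
  refine ⟨π.liftOfRightInverse (Function.surjInv hsurj) (Function.rightInverse_surjInv hsurj)
    ⟨Rr, hker⟩, fun n => ?_⟩
  have h1 : (n : G) = π (SemidirectProduct.inl n) := by
    rw [hπ]; simp
  rw [h1, MonoidHom.liftOfRightInverse_comp_apply]
  show Rr (SemidirectProduct.inl n) = R n
  rw [hRr]; simp

end Cfsg.Agent.H6
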