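import Mathlib
import Cfsg.Prelude.Def_Characters
import Cfsg.Prelude.Def_CharExt
import Cfsg.Agent.CharLib.EquivChar

/-! The determinantal character. -/

set_option autoImplicit false

namespace Cfsg.Agent.H6

open Cfsg Module Cfsg.Agent.CharLib Cfsg.Agent.CharLib.H2

variable {G : Type*} [Group G]

theorem det_eq_of_equiv {V W : Type*} [AddCommGroup V] [Module ℂ V] [AddCommGroup W] [Module ℂ W]
    (ρ : Representation ℂ G V) (σ : Representation ℂ G W) (φ : ρ.Equiv σ) (g : G) :
    LinearMap.det (ρ g) = LinearMap.det (σ g) := by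
  have h : σ g = (φ.toLinearEquiv : V →ₗ[ℂ] W) ∘ₗ ρ g ∘ₗ (φ.toLinearEquiv.symm : W →ₗ[ℂ] V) := by
    ext w
    have := congrArg (fun T => T (φ.toLinearEquiv.symm w)) (φ.toIntertwiningMap.isIntertwining' g)
    simp only [LinearMap.comp_apply, LinearEquiv.coe_coe]
    have h2 : φ.toLinearEquiv (ρ g (φ.toLinearEquiv.symm w)) =
        σ g (φ.toLinearEquiv (φ.toLinearEquiv.symm w)) := this
    rw [LinearEquiv.apply_symm_apply] at h2
    exact h2.symm
  rw [h, LinearMap.det_conj]

theorem detChar_eq [Finite G] {n : ℕ} (ρ : Representation ℂ G (Fin n → ℂ)) :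
    detChar ρ.character = fun g => LinearMap.det (ρ g) := by
  have h : IsCharacter G ρ.character := ⟨n, ρ, rfl⟩
  unfold detChar
  rw [dif_pos h]
  funext g
  have hspec := Classical.choose_spec (Classical.choose_spec h)
  obtain ⟨φ⟩ := nonempty_equiv_of_char_eq _ ρ hspec
  exact det_eq_of_equiv _ ρ φ g

/-- the determinantal character of a restriction -/
theorem detChar_restrict [Finite G] {χ : G → ℂ} (hχ : IsCharacter G χ) (N : Subgroup G) :
    detChar (fun n : N => χ n) = fun n : N => detChar χ n := by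
  obtain ⟨n, ρ, rfl⟩ := hχ
  let σ : Representation ℂ N (Fin n → ℂ) := (ρ : G →* End ℂ (Fin n → ℂ)).comp N.subtype
  have h1 : (fun x : N => ρ.character x) = σ.character := rfl
  rw [h1, detChar_eq σ, detChar_eq ρ]
  rfl

/-- the twist of a representation by a homomorphism to the units -/
noncomputable def twistRep {V : Type*} [AddCommGroup V] [Module ℂ V] (f : G →* ℂˣ)
    (ρ : Representation ℂ G V) : Representation ℂ G V where
  toFun g := ((f g : ℂˣ) : ℂ) • ρ g
  map_one' := by simp
  map_mul' a b := by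
    rw [map_mul, map_mul, Units.val_mul, smul_mul_smul_comm]

theorem twistRep_apply {V : Type*} [AddCommGroup V] [Module ℂ V] (f : G →* ℂˣ)
    (ρ : Representation ℂ G V) (g : G) : twistRep f ρ g = ((f g : ℂˣ) : ℂ) • ρ g := rfl

theorem twistRep_character {V : Type*} [AddCommGroup V] [Module ℂ V] (f : G →* ℂˣ)
    (ρ : Representation ℂ G V) :
    (twistRep f ρ).character = fun g => ((f g : ℂˣ) : ℂ) * ρ.character g := by
  funext g
  show LinearMap.trace ℂ V (twistRep f ρ g) = _
  rw [twistRep_apply, map_smul, smul_eq_mul]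
  rfl

/-- the determinantal character of a twist -/
theorem detChar_twist [Finite G] (f : G →* ℂˣ) {χ : G → ℂ} (hχ : IsCharacter G χ) {d : ℕ}
    (hd : χ 1 = d) :
    detChar (fun g => ((f g : ℂˣ) : ℂ) * χ g) = fun g => ((f g : ℂˣ) : ℂ) ^ d * detChar χ g := by
  obtain ⟨n, ρ, rfl⟩ := hχ
  rw [Representation.char_one, Module.finrank_fin_fun] at hd
  have hnd : n = d := by exact_mod_cast hd
  subst hnd
  rw [← twistRep_character, detChar_eq, detChar_eq]
  funext g
  rw [twistRep_apply, LinearMap.det_smul, Module.finrank_fin_fun]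

/-- the determinantal character as a homomorphism -/
theorem exists_detHom [Finite G] {χ : G → ℂ} (hχ : IsCharacter G χ) :
    ∃ D : G →* ℂˣ, ∀ g, ((D g : ℂˣ) : ℂ) = detChar χ g := by
  obtain ⟨n, ρ, rfl⟩ := hχ
  refine ⟨MonoidHom.toHomUnits (LinearMap.det.comp (ρ : G →* End ℂ (Fin n → ℂ))), fun g => ?_⟩
  rw [detChar_eq]
  rfl

end Cfsg.Agent.H6
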