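import Mathlib
import Cfsg.Prelude.Def_Characters
import Cfsg.Prelude.Def_Transfer
import Cfsg.Agent.H6.CliffInv
import Cfsg.Agent.CharLib.L.CenterIndex
import Cfsg.Agent.CharLib.Eigen

/-! Irreducible representations of extraspecial groups. -/

set_option autoImplicit false

namespace Cfsg.Agent.H6

open Cfsg Module Cfsg.Agent.CharLib Cfsg.Agent.CharLib.H2
open scoped ComplexConjugate commutatorElement

variable {P : Type*} [Group P]

theorem exists_scalar_of_mem_center {V : Type*} [AddCommGroup V] [Module ℂ V]
    [FiniteDimensional ℂ V] (ρ : Representation ℂ P V) [ρ.IsIrreducible] {z : P}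
    (hz : z ∈ Subgroup.center P) : ∃ ω : ℂ, ρ z = ω • LinearMap.id := by
  apply schur ρ (ρ z)
  intro g
  have h1 : ρ z * ρ g = ρ g * ρ z := by
    rw [← map_mul, ← map_mul, (Subgroup.mem_center_iff.mp hz g)]
  exact h1

/-- a character of degree zero vanishes -/
theorem isCharacter_eq_zero_of_apply_one {χ : P → ℂ} (h : IsCharacter P χ) (h1 : χ 1 = 0) :
    χ = 0 := by
  obtain ⟨n, ρ, rfl⟩ := h
  rw [Representation.char_one, Module.finrank_fin_fun] at h1
  have hn : n = 0 := by exact_mod_cast h1
  subst hn
  funext g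
  show LinearMap.trace ℂ _ (ρ g) = 0
  have : ρ g = 0 := Subsingleton.elim _ _
  rw [this, map_zero]

variable [Finite P]

/-- a nonlinear irreducible character of an extraspecial group vanishes off the centre -/
theorem extraspecial_vanish (p : ℕ) [Fact p.Prime] (hP : IsExtraspecial p P) {d : ℕ}
    (ρ : Representation ℂ P (Fin d → ℂ)) [ρ.IsIrreducible] (hd : d ≠ 1) (x : P)
    (hx : x ∉ Subgroup.center P) : ρ.character x = 0 := by
  classical
  have hcomm : commutator P = Subgroup.center P := hP.1.2.2
  have hcard : Nat.card (Subgroup.center P) = p := hP.2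
  rw [Subgroup.mem_center_iff] at hx
  push Not at hx
  obtain ⟨y, hy⟩ := hx
  set c : P := ⁅x⁻¹, y⁻¹⁆ with hc
  have hcZ : c ∈ Subgroup.center P := by
    rw [← hcomm, commutator_def]
    exact Subgroup.commutator_mem_commutator (Subgroup.mem_top _) (Subgroup.mem_top _)
  have hc1 : c ≠ 1 := by
    intro h
    rw [hc, commutatorElement_eq_one_iff_mul_comm] at h
    apply hy
    have h2 := congrArg (fun t => t⁻¹) h
    simpa using h2
  obtain ⟨ω, hω⟩ := exists_scalar_of_mem_center ρ hcZ
  have hconj : y⁻¹ * x * y = x * c := by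
    rw [hc, commutatorElement_def]; group
  have h1 : ρ.character x = ω * ρ.character x := by
    have h2 : ρ.character (y⁻¹ * x * y) = ρ.character x := by
      have := Representation.char_conj ρ x y⁻¹
      rwa [inv_inv] at this
    rw [hconj] at h2
    have h3 : ρ.character (x * c) = ω * ρ.character x := by
      show LinearMap.trace ℂ _ (ρ (x * c)) = ω * LinearMap.trace ℂ _ (ρ x)
      rw [map_mul, hω]
      have : ρ x * (ω • LinearMap.id) = ω • ρ x := by
        ext v; simp
      rw [this, map_smul, smul_eq_mul]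
    exact h2.symm.trans h3
  by_cases hω1 : ω = 1
  · exfalso
    apply hd
    have hρc : ρ c = 1 := by rw [hω, hω1, one_smul]; rfl
    have hZ : ∀ z ∈ Subgroup.center P, ρ z = 1 := by
      intro z hz
      haveI : Fact (Nat.card (Subgroup.center P)).Prime := by rw [hcard]; infer_instance
      have htop := zpowers_eq_top_of_prime_card (G := Subgroup.center P) (p := p) hcard
        (g := ⟨c, hcZ⟩) (by intro h; exact hc1 (congrArg Subtype.val h))
      have hmem : (⟨z, hz⟩ : Subgroup.center P) ∈ Subgroup.zpowers (⟨c, hcZ⟩ : Subgroup.center P) := by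
        rw [htop]; trivial
      obtain ⟨k, hk⟩ := Subgroup.mem_zpowers_iff.mp hmem
      have hk' : c ^ k = z := by
        have := congrArg Subtype.val hk
        simpa using this
      have hker : c ∈ MonoidHom.ker (ρ : P →* End ℂ (Fin d → ℂ)) := hρc
      have : c ^ k ∈ MonoidHom.ker (ρ : P →* End ℂ (Fin d → ℂ)) := Subgroup.zpow_mem _ hker k
      rw [hk'] at this
      exact this
    have hab : ∀ a b : P, ρ a * ρ b = ρ b * ρ a := by
      intro a b
      have h2 : a * b = b * a * ⁅a⁻¹, b⁻¹⁆ := by rw [commutatorElement_def]; group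
      have h3 : ⁅a⁻¹, b⁻¹⁆ ∈ Subgroup.center P := by
        rw [← hcomm, commutator_def]
        exact Subgroup.commutator_mem_commutator (Subgroup.mem_top _) (Subgroup.mem_top _)
      rw [← map_mul, h2, map_mul, hZ _ h3, mul_one, map_mul]
    have hdvd := Cfsg.Agent.CharLib.L.finrank_dvd_index_of_scalar ρ ⊤ (fun h _ => by
      obtain ⟨ω', hω'⟩ := schur ρ (ρ h) (fun g => hab h g)
      exact ⟨ω', hω'⟩)
    rw [Subgroup.index_top, Nat.dvd_one, Module.finrank_fin_fun] at hdvd
    exact hdvd
  · have : (1 - ω) * ρ.character x = 0 := by linear_combination h1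
    rcases mul_eq_zero.mp this with h | h
    · exact absurd (by linear_combination -h) hω1
    · exact h

/-- the degree of a nonlinear irreducible character of an extraspecial group -/
theorem extraspecial_degree (p : ℕ) [Fact p.Prime] (hP : IsExtraspecial p P) {d : ℕ}
    (ρ : Representation ℂ P (Fin d → ℂ)) [hirr : ρ.IsIrreducible] (hd : d ≠ 1) :
    p * d ^ 2 = Nat.card P := by
  classical
  cases nonempty_fintype P
  have hcard : Nat.card (Subgroup.center P) = p := hP.2
  have hχ : IsIrrCharacter P ρ.character := ⟨d, ρ, hirr, rfl⟩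
  have h1 := classInner_irr_self hχ
  rw [classInner, sum_eq_sum_subgroup_add (Subgroup.center P)] at h1
  rw [Finset.sum_eq_zero (s := Finset.univ.filter (fun g => g ∉ Subgroup.center P))
    (fun g hg => by rw [extraspecial_vanish p hP ρ hd g (by simpa using hg), zero_mul]),
    add_zero] at h1
  have h2 : ∀ z : Subgroup.center P, ρ.character z * conj (ρ.character z) = (d : ℂ) ^ 2 := by
    intro z
    obtain ⟨ω, hω⟩ := exists_scalar_of_mem_center ρ z.2
    have := (norm_character_eq_iff ρ (z : P)).mpr ⟨ω, hω⟩
    rw [Complex.mul_conj, Complex.normSq_eq_norm_sq, this, Module.finrank_fin_fun]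
    push_cast; ring
  simp only [h2, Finset.sum_const, Finset.card_univ, nsmul_eq_mul] at h1
  rw [← Nat.card_eq_fintype_card, hcard] at h1
  have h0 : (Nat.card P : ℂ) ≠ 0 := card_ne_zero_complex
  have h3 : ((p * d ^ 2 : ℕ) : ℂ) = (Nat.card P : ℂ) := by
    push_cast
    field_simp at h1
    linear_combination h1
  exact_mod_cast h3

end Cfsg.Agent.H6
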