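import Mathlib
import Cfsg.Prelude.Def_ClassicalGeometry

set_option autoImplicit false

namespace Cfsg.Agent.H6

open Matrix

section
variable {F : Type*} [Field F] [Fintype F] {q : ℕ}

theorem exists_char_pow (hF : Fintype.card F = q ^ 2) :
    ∃ (p k : ℕ), p.Prime ∧ CharP F p ∧ q = p ^ k := by
  obtain ⟨p, hp⟩ := CharP.exists F
  obtain ⟨n, hpp, hn⟩ := FiniteField.card F p
  have hq : q ∣ p ^ (n : ℕ) := by
    rw [← hn, hF]; exact Dvd.intro_left (q ^ 1) (by ring)
  obtain ⟨k, _, hk⟩ := (Nat.dvd_prime_pow hpp).mp hq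
  exact ⟨p, k, hpp, hp, hk⟩

theorem q_pos (hF : Fintype.card F = q ^ 2) : 2 ≤ q := by
  have h1 : 1 < Fintype.card F := Fintype.one_lt_card
  rw [hF] at h1
  by_contra h
  have : q ≤ 1 := by omega
  have : q ^ 2 ≤ 1 ^ 2 := Nat.pow_le_pow_left this 2
  omega

theorem add_pow_q (hF : Fintype.card F = q ^ 2) (a b : F) : (a + b) ^ q = a ^ q + b ^ q := by
  obtain ⟨p, k, hp, hc, rfl⟩ := exists_char_pow hF
  haveI := hc
  haveI : Fact p.Prime := ⟨hp⟩
  exact add_pow_char_pow a b p k

theorem sum_pow_q (hF : Fintype.card F = q ^ 2) {ι : Type*} (s : Finset ι) (f : ι → F) :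
    (∑ i ∈ s, f i) ^ q = ∑ i ∈ s, f i ^ q := by
  obtain ⟨p, k, hp, hc, rfl⟩ := exists_char_pow hF
  haveI := hc
  haveI : Fact p.Prime := ⟨hp⟩
  exact sum_pow_char_pow (p := p) (n := k) s f

theorem pow_q_pow_q (hF : Fintype.card F = q ^ 2) (a : F) : (a ^ q) ^ q = a := by
  rw [← pow_mul, ← pow_two, ← hF, FiniteField.pow_card]

theorem neg_pow_q (hF : Fintype.card F = q ^ 2) (a : F) : (-a) ^ q = -(a ^ q) := by
  have h := add_pow_q hF a (-a)
  rw [add_neg_cancel, zero_pow (by have := q_pos hF; omega)] at h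
  exact (eq_neg_of_add_eq_zero_right h.symm)

theorem sub_pow_q (hF : Fintype.card F = q ^ 2) (a b : F) : (a - b) ^ q = a ^ q - b ^ q := by
  rw [sub_eq_add_neg, add_pow_q hF, neg_pow_q hF, sub_eq_add_neg]

end

section
variable {F : Type*} [Field F] {q n : ℕ}

theorem hermForm_add_left (x y z : Fin n → F) :
    hermForm n F q (x + y) z = hermForm n F q x z + hermForm n F q y z := by
  unfold hermForm
  rw [← Finset.sum_add_distrib]
  exact Finset.sum_congr rfl (fun i _ => by rw [Pi.add_apply, add_mul])

theorem hermForm_smul_left (a : F) (x z : Fin n → F) :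
    hermForm n F q (a • x) z = a * hermForm n F q x z := by
  unfold hermForm
  rw [Finset.mul_sum]
  exact Finset.sum_congr rfl (fun i _ => by rw [Pi.smul_apply, smul_eq_mul, mul_assoc])

theorem hermForm_smul_right (a : F) (x z : Fin n → F) :
    hermForm n F q x (a • z) = a ^ q * hermForm n F q x z := by
  unfold hermForm
  rw [Finset.mul_sum]
  exact Finset.sum_congr rfl (fun i _ => by rw [Pi.smul_apply, smul_eq_mul, mul_pow]; ring)

theorem hermForm_add_right [Fintype F] (hF : Fintype.card F = q ^ 2) (x y z : Fin n → F) :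
    hermForm n F q x (y + z) = hermForm n F q x y + hermForm n F q x z := by
  unfold hermForm
  rw [← Finset.sum_add_distrib]
  exact Finset.sum_congr rfl (fun i _ => by rw [Pi.add_apply, add_pow_q hF, mul_add])

theorem hermForm_conj [Fintype F] (hF : Fintype.card F = q ^ 2) (x y : Fin n → F) :
    (hermForm n F q x y) ^ q = hermForm n F q y x := by
  unfold hermForm
  rw [sum_pow_q hF]
  exact Finset.sum_congr rfl (fun i _ => by rw [mul_pow, pow_q_pow_q hF, mul_comm])

theorem unitaryTransvection_mulVec (v : Fin n → F) (c : F) (x : Fin n → F) :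
    unitaryTransvection n q v c *ᵥ x = x + (c * hermForm n F q x v) • v := by
  unfold unitaryTransvection
  rw [Matrix.add_mulVec, Matrix.one_mulVec, Matrix.smul_mulVec]
  congr 1
  ext i
  simp only [Pi.smul_apply, smul_eq_mul, Matrix.mulVec, dotProduct, Matrix.vecMulVec_apply, hermForm]
  rw [mul_assoc, Finset.sum_mul]
  congr 1
  exact Finset.sum_congr rfl (fun j _ => by ring)

theorem hermForm_single_left (i : Fin n) (v : Fin n → F) :
    hermForm n F q (Pi.single i 1) v = v i ^ q := by
  unfold hermForm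
  rw [Finset.sum_eq_single i]
  · simp
  · intro j _ hj; simp [hj]
  · simp

theorem hermForm_single_right (hq : q ≠ 0) (i : Fin n) (v : Fin n → F) :
    hermForm n F q v (Pi.single i 1) = v i := by
  unfold hermForm
  rw [Finset.sum_eq_single i]
  · simp
  · intro j _ hj; simp [hj, hq]
  · simp

/-- the basic transvection formula -/
theorem hermForm_transvection [Fintype F] (hF : Fintype.card F = q ^ 2) (v : Fin n → F)
    (hv0 : hermForm n F q v v = 0) (c : F) (x y : Fin n → F) :
    hermForm n F q (unitaryTransvection n q v c *ᵥ x) (unitaryTransvection n q v c *ᵥ y)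
      = hermForm n F q x y + (c ^ q + c) * (hermForm n F q x v * hermForm n F q v y) := by
  rw [unitaryTransvection_mulVec, unitaryTransvection_mulVec, hermForm_add_left,
    hermForm_add_right hF, hermForm_add_right hF, hermForm_smul_left, hermForm_smul_left,
    hermForm_smul_right, hermForm_smul_right, hv0, mul_pow, hermForm_conj hF]
  ring

end

end Cfsg.Agent.H6
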