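import Mathlib
import Cfsg.Prelude.Def_Characters
import Cfsg.Agent.CharLib.L.CenterIndex
import Cfsg.Agent.H6.CliffInv

/-! The group of pairs `(g, A)` with `A σ(n) A⁻¹ = σ(g n g⁻¹)`, attached to an invariant
irreducible representation `σ` of a normal subgroup, and its finite subgroups cut out by a
determinant condition. -/

set_option autoImplicit false

namespace Cfsg.Agent.H6.ProjLift

open Module Cfsg Cfsg.Agent.CharLib

variable {G : Type*} [Group G] (N : Subgroup G) [hN : N.Normal]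
  {W : Type*} [AddCommGroup W] [Module ℂ W] (σ : Representation ℂ N W)

/-- pairs `(g, A)` with `A σ(n) = σ(g n g⁻¹) A`. -/
def pairs : Subgroup (G × (End ℂ W)ˣ) where
  carrier := {x | ∀ n : N, (x.2 : End ℂ W) * σ n = σ (MulAut.conjNormal x.1 n) * (x.2 : End ℂ W)}
  one_mem' := by intro n; simp
  mul_mem' := by
    intro a b ha hb n
    simp only [Prod.snd_mul, Units.val_mul, Prod.fst_mul, map_mul, MulAut.mul_apply]
    rw [mul_assoc, hb n, ← mul_assoc, ha, mul_assoc]
  inv_mem' := by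
    intro a ha n
    have h := ha (MulAut.conjNormal a.1⁻¹ n)
    have h2 : MulAut.conjNormal a.1 (MulAut.conjNormal a.1⁻¹ n) = n := by
      rw [← MulAut.mul_apply, ← map_mul, mul_inv_cancel, map_one, MulAut.one_apply]
    rw [h2] at h
    simp only [Prod.snd_inv, Prod.fst_inv]
    calc ((a.2⁻¹ : (End ℂ W)ˣ) : End ℂ W) * σ n
        = ((a.2⁻¹ : (End ℂ W)ˣ) : End ℂ W) * (σ n * (a.2 : End ℂ W)) * ((a.2⁻¹ : (End ℂ W)ˣ) : End ℂ W) := by
          rw [mul_assoc, mul_assoc, Units.mul_inv, mul_one]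
      _ = σ (MulAut.conjNormal a.1⁻¹ n) * ((a.2⁻¹ : (End ℂ W)ˣ) : End ℂ W) := by
          rw [← h, ← mul_assoc, Units.inv_mul, one_mul]

theorem mem_pairs {x : G × (End ℂ W)ˣ} : x ∈ pairs N σ ↔
    ∀ n : N, (x.2 : End ℂ W) * σ n = σ (MulAut.conjNormal x.1 n) * (x.2 : End ℂ W) := Iff.rfl

/-- the scalar unit -/
noncomputable def sc (c : ℂˣ) : (End ℂ W)ˣ := Units.map (algebraMap ℂ (End ℂ W) : ℂ →* End ℂ W) c

theorem sc_val (c : ℂˣ) : ((sc c : (End ℂ W)ˣ) : End ℂ W) = (c : ℂ) • (1 : End ℂ W) := by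
  simp [sc, Algebra.algebraMap_eq_smul_one]

theorem one_sc_mem_pairs (c : ℂˣ) : ((1 : G), (sc c : (End ℂ W)ˣ)) ∈ pairs N σ := by
  intro n
  simp [sc_val]

/-- the determinant condition -/
noncomputable def lift (δ : G →* ℂˣ) : Subgroup (G × (End ℂ W)ˣ) :=
  pairs N σ ⊓ MonoidHom.eqLocus
    ((Units.map (LinearMap.det : End ℂ W →* ℂ)).comp (MonoidHom.snd G (End ℂ W)ˣ))
    (δ.comp (MonoidHom.fst G (End ℂ W)ˣ))

theorem mem_lift {δ : G →* ℂˣ} {x : G × (End ℂ W)ˣ} : x ∈ lift N σ δ ↔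
    x ∈ pairs N σ ∧ LinearMap.det (x.2 : End ℂ W) = (δ x.1 : ℂ) := by
  rw [lift, Subgroup.mem_inf]
  refine and_congr Iff.rfl ?_
  constructor
  · intro h
    exact congrArg Units.val h
  · intro h
    exact Units.ext h

theorem lift_le_pairs (δ : G →* ℂˣ) : lift N σ δ ≤ pairs N σ := inf_le_left

/-- projection to `G` -/
noncomputable def proj (δ : G →* ℂˣ) : lift N σ δ →* G :=
  (MonoidHom.fst G (End ℂ W)ˣ).comp (lift N σ δ).subtype

theorem proj_apply (δ : G →* ℂˣ) (x : lift N σ δ) : proj N σ δ x = x.1.1 := rfl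

section irr

variable [Finite G] [FiniteDimensional ℂ W] [hσ : σ.IsIrreducible]

theorem scalar_of_mem {x : G × (End ℂ W)ˣ} (hx : x ∈ pairs N σ) (h : x.1 ∈ N) :
    ∃ c : ℂ, (x.2 : End ℂ W) = c • σ ⟨x.1, h⟩ := by
  set n : N := ⟨x.1, h⟩ with hn
  have hconj : ∀ m : N, MulAut.conjNormal x.1 m = n * m * n⁻¹ := by
    intro m
    apply Subtype.ext
    simp [hn]
  obtain ⟨c, hc⟩ := exists_smul_of_commute σ (σ n⁻¹ * (x.2 : End ℂ W)) (by
    intro m
    rw [mul_assoc, hx m, hconj, ← mul_assoc, ← mul_assoc, ← map_mul, ← map_mul]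
    congr 2
    group)
  refine ⟨c, ?_⟩
  have : (x.2 : End ℂ W) = σ n * (σ n⁻¹ * (x.2 : End ℂ W)) := by
    rw [← mul_assoc, ← map_mul, mul_inv_cancel, map_one, one_mul]
  rw [this, hc]
  simp

theorem exists_pair (hinv : ∀ (g : G) (n : N), σ.character (MulAut.conjNormal g n) = σ.character n)
    (g : G) : ∃ A : (End ℂ W)ˣ, (g, A) ∈ pairs N σ := by
  classical
  haveI : Fintype N := Fintype.ofFinite N
  let σg : Representation ℂ N W := σ.comp (MulAut.conjNormal g : MulAut N).toMonoidHom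
  haveI : σg.IsIrreducible := by
    rw [isIrreducible_iff] at hσ ⊢
    refine ⟨hσ.1, fun U hU => hσ.2 U fun n v hv => ?_⟩
    have := hU ((MulAut.conjNormal g : MulAut N).symm n) v hv
    simpa [σg] using this
  have hchar : σ.character = σg.character := by
    funext n
    exact (hinv g n).symm
  obtain ⟨φ⟩ := nonempty_equiv_of_char_eq_of_irr σ σg hchar
  refine ⟨LinearMap.GeneralLinearGroup.ofLinearEquiv φ.toLinearEquiv, ?_⟩
  intro n
  ext w
  have := Representation.IntertwiningMap.isIntertwining σ σg φ.toIntertwiningMap n w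
  exact this

theorem det_sc (c : ℂˣ) : LinearMap.det ((sc c : (End ℂ W)ˣ) : End ℂ W) = (c : ℂ) ^ finrank ℂ W := by
  rw [sc_val, LinearMap.det_smul, map_one, mul_one]

include σ hσ in
theorem finrank_pos' : 0 < finrank ℂ W := by
  have h := (isIrreducible_iff σ).mp hσ
  haveI := h.1
  exact Module.finrank_pos

theorem exists_lift (hinv : ∀ (g : G) (n : N), σ.character (MulAut.conjNormal g n) = σ.character n)
    (δ : G →* ℂˣ) (g : G) : ∃ A : (End ℂ W)ˣ, (g, A) ∈ lift N σ δ := by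
  obtain ⟨A, hA⟩ := exists_pair N σ hinv g
  have hdet : LinearMap.det (A : End ℂ W) ≠ 0 := by
    have : IsUnit (LinearMap.det (A : End ℂ W)) := A.isUnit.map LinearMap.det
    exact this.ne_zero
  obtain ⟨z, hz⟩ := IsAlgClosed.exists_pow_nat_eq ((δ g : ℂ) / LinearMap.det (A : End ℂ W))
    (finrank_pos' N σ)
  have hz0 : z ≠ 0 := by
    rintro rfl
    rw [zero_pow (finrank_pos' N σ).ne'] at hz
    exact (div_ne_zero (δ g).ne_zero hdet) hz.symm
  refine ⟨sc (Units.mk0 z hz0) * A, ?_⟩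
  rw [mem_lift]
  constructor
  · have := (pairs N σ).mul_mem (one_sc_mem_pairs N σ (Units.mk0 z hz0)) hA
    simpa using this
  · simp only [Units.val_mul, map_mul, det_sc, Units.val_mk0, hz]
    field_simp

theorem proj_surjective
    (hinv : ∀ (g : G) (n : N), σ.character (MulAut.conjNormal g n) = σ.character n)
    (δ : G →* ℂˣ) : Function.Surjective (proj N σ δ) := by
  intro g
  obtain ⟨A, hA⟩ := exists_lift N σ hinv δ g
  exact ⟨⟨(g, A), hA⟩, rfl⟩

theorem finite_lift (δ : G →* ℂˣ) : Finite (lift N σ δ) := by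
  classical
  haveI : NeZero (finrank ℂ W) := ⟨(finrank_pos' N σ).ne'⟩
  have hmem : ∀ c : rootsOfUnity (finrank ℂ W) ℂ,
      ((1 : G), (sc (c : ℂˣ) : (End ℂ W)ˣ)) ∈ lift N σ δ := by
    intro c
    rw [mem_lift]
    refine ⟨one_sc_mem_pairs N σ _, ?_⟩
    rw [det_sc]
    have := c.2
    rw [mem_rootsOfUnity] at this
    simp only [map_one, Units.val_one]
    have h2 := congrArg Units.val this
    simpa using h2
  haveI : Finite (proj N σ δ).ker := by
    refine Finite.of_surjective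
      (fun c : rootsOfUnity (finrank ℂ W) ℂ => (⟨⟨_, hmem c⟩, rfl⟩ : (proj N σ δ).ker)) ?_
    rintro ⟨⟨x, hx⟩, hx1⟩
    have hx1' : x.1 = 1 := hx1
    rw [mem_lift] at hx
    obtain ⟨c, hc⟩ := scalar_of_mem N σ hx.1 (by rw [hx1']; exact N.one_mem)
    have h1 : (⟨x.1, by rw [hx1']; exact N.one_mem⟩ : N) = 1 := Subtype.ext hx1'
    rw [h1, map_one] at hc
    have hdet := hx.2
    rw [hc, LinearMap.det_smul, map_one, mul_one, hx1', map_one, Units.val_one] at hdet
    have hc0 : c ≠ 0 := by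
      rintro rfl
      rw [zero_pow (finrank_pos' N σ).ne'] at hdet
      exact zero_ne_one hdet
    refine ⟨⟨Units.mk0 c hc0, ?_⟩, ?_⟩
    · rw [mem_rootsOfUnity]
      exact Units.ext (by simpa using hdet)
    · apply Subtype.ext
      apply Subtype.ext
      refine Prod.ext hx1'.symm (Units.ext ?_)
      simp only [sc_val, Units.val_mk0]
      exact hc.symm
  haveI : Fintype G := Fintype.ofFinite G
  haveI : Fintype (proj N σ δ).ker := Fintype.ofFinite _
  exact (Group.fintypeOfKerOfCodom (proj N σ δ)).finite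

end irr

end Cfsg.Agent.H6.ProjLift
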