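import Mathlib
import Cfsg.Prelude.Def_Characters
import Cfsg.Agent.H6.ProjLift

/-! The multiplicity of an invariant irreducible constituent divides the index. -/

set_option autoImplicit false

namespace Cfsg.Agent.H6.ProjLift

open Module Cfsg Cfsg.Agent.CharLib Representation
open scoped TensorProduct

variable {G : Type*} [Group G] (N : Subgroup G) [hN : N.Normal]
  {W : Type*} [AddCommGroup W] [Module ℂ W] (σ : Representation ℂ N W)
  {V : Type*} [AddCommGroup V] [Module ℂ V] (ρ : Representation ℂ G V)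

/-- restriction to the normal subgroup -/
abbrev resN : Representation ℂ N V := MonoidHom.comp ρ N.subtype

/-- action of a pair on an intertwiner -/
def actFun (x : pairs N σ) (f : IntertwiningMap σ (resN N ρ)) : IntertwiningMap σ (resN N ρ) :=
  ⟨ρ x.1.1 ∘ₗ f.toLinearMap ∘ₗ ((x.1.2⁻¹ : (End ℂ W)ˣ) : End ℂ W), by
    intro n
    ext w
    have h1 := (pairs N σ).inv_mem x.2 n
    have h2 := LinearMap.congr_fun h1 w
    simp only [Prod.snd_inv, Prod.fst_inv, Module.End.mul_apply] at h2
    simp only [LinearMap.comp_apply]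
    rw [h2]
    have h3 := IntertwiningMap.isIntertwining σ (resN N ρ) f (MulAut.conjNormal x.1.1⁻¹ n)
      (((x.1.2⁻¹ : (End ℂ W)ˣ) : End ℂ W) w)
    rw [IntertwiningMap.toLinearMap_apply, h3]
    change ρ x.1.1 (ρ ((MulAut.conjNormal x.1.1⁻¹ n : N) : G) _) = ρ (n : G) (ρ x.1.1 _)
    rw [← Module.End.mul_apply, ← Module.End.mul_apply, ← map_mul, ← map_mul]
    congr 2
    simp only [MulAut.conjNormal_apply, inv_inv]
    group⟩

theorem actFun_apply (x : pairs N σ) (f : IntertwiningMap σ (resN N ρ)) (w : W) :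
    actFun N σ ρ x f w = ρ x.1.1 (f (((x.1.2⁻¹ : (End ℂ W)ˣ) : End ℂ W) w)) := rfl

/-- the representation of the group of pairs on the space of intertwiners -/
def act : Representation ℂ (pairs N σ) (IntertwiningMap σ (resN N ρ)) where
  toFun x :=
    { toFun := actFun N σ ρ x
      map_add' := by
        intro f g
        ext w
        simp [actFun_apply]
      map_smul' := by
        intro c f
        ext w
        simp [actFun_apply] }
  map_one' := by
    ext f w
    simp [actFun_apply]
  map_mul' := by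
    intro x y
    ext f w
    simp [actFun_apply]

theorem act_apply (x : pairs N σ) (f : IntertwiningMap σ (resN N ρ)) (w : W) :
    act N σ ρ x f w = ρ x.1.1 (f (((x.1.2⁻¹ : (End ℂ W)ˣ) : End ℂ W) w)) := rfl

section main

variable [Finite G] [FiniteDimensional ℂ W] [FiniteDimensional ℂ V]
  [hσ : σ.IsIrreducible] [hρ : ρ.IsIrreducible]

/-- the representation of the finite cover on the space of intertwiners -/
noncomputable def actLift : Representation ℂ (lift N σ 1) (IntertwiningMap σ (resN N ρ)) :=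
  (act N σ ρ).comp (Subgroup.inclusion (lift_le_pairs N σ 1))

theorem actLift_apply (x : lift N σ 1) (f : IntertwiningMap σ (resN N ρ)) (w : W) :
    actLift N σ ρ x f w = ρ x.1.1 (f (((x.1.2⁻¹ : (End ℂ W)ˣ) : End ℂ W) w)) := rfl

theorem actLift_irreducible
    (hinv : ∀ (g : G) (n : N), σ.character (MulAut.conjNormal g n) = σ.character n)
    (hdim : finrank ℂ V = finrank ℂ (IntertwiningMap σ (resN N ρ)) * finrank ℂ W) :
    (actLift N σ ρ).IsIrreducible := by
  have hW := finrank_pos' N σ
  have hρ' := (isIrreducible_iff ρ).mp hρ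
  haveI := hρ'.1
  have hV : 0 < finrank ℂ V := Module.finrank_pos
  have hU : 0 < finrank ℂ (IntertwiningMap σ (resN N ρ)) := by
    rcases Nat.eq_zero_or_pos (finrank ℂ (IntertwiningMap σ (resN N ρ))) with h | h
    · rw [h, zero_mul] at hdim
      omega
    · exact h
  rw [isIrreducible_iff]
  refine ⟨Module.nontrivial_of_finrank_pos (R := ℂ) hU, fun U' hU' => ?_⟩
  by_cases hbot : U' = ⊥
  · exact Or.inl hbot
  right
  let toLin : IntertwiningMap σ (resN N ρ) →ₗ[ℂ] (W →ₗ[ℂ] V) :=
    { toFun := fun f => f.toLinearMap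
      map_add' := fun _ _ => rfl
      map_smul' := fun _ _ => rfl }
  let ev : U' ⊗[ℂ] W →ₗ[ℂ] V := TensorProduct.lift (toLin ∘ₗ U'.subtype)
  have hev : ∀ (f : U') (w : W), ev (f ⊗ₜ w) = f.1 w := fun f w => rfl
  have hstab : ∀ g, ∀ v ∈ LinearMap.range ev, ρ g v ∈ LinearMap.range ev := by
    rintro g v ⟨t, rfl⟩
    obtain ⟨x, hx⟩ := proj_surjective N σ hinv 1 g
    induction t using TensorProduct.induction_on with
    | zero => simp
    | tmul f w =>
      refine ⟨(⟨actLift N σ ρ x f.1, hU' x f.1 f.2⟩ : U') ⊗ₜ ((x.1.2 : End ℂ W) w), ?_⟩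
      rw [hev, hev, actLift_apply]
      rw [← Module.End.mul_apply, Units.inv_mul, Module.End.one_apply]
      rw [← hx]
      rfl
    | add a b ha hb =>
      rw [map_add, map_add]
      exact Submodule.add_mem _ ha hb
  have hrange : LinearMap.range ev = ⊤ := by
    rcases hρ'.2 _ hstab with h | h
    · exfalso
      apply hbot
      rw [Submodule.eq_bot_iff]
      intro f hf
      ext w
      have : ev ((⟨f, hf⟩ : U') ⊗ₜ w) ∈ LinearMap.range ev := ⟨_, rfl⟩
      rw [h, Submodule.mem_bot, hev] at this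
      exact this
    · exact h
  have h1 : finrank ℂ V ≤ finrank ℂ U' * finrank ℂ W := by
    have := LinearMap.finrank_range_le ev
    rw [hrange, finrank_top, Module.finrank_tensorProduct] at this
    exact this
  rw [hdim] at h1
  have h2 : finrank ℂ (IntertwiningMap σ (resN N ρ)) ≤ finrank ℂ U' := Nat.le_of_mul_le_mul_right h1 hW
  exact Submodule.eq_top_of_finrank_eq (le_antisymm (Submodule.finrank_le U') h2)

theorem finrank_intertwining_dvd_index
    (hinv : ∀ (g : G) (n : N), σ.character (MulAut.conjNormal g n) = σ.character n)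
    (hdim : finrank ℂ V = finrank ℂ (IntertwiningMap σ (resN N ρ)) * finrank ℂ W) :
    finrank ℂ (IntertwiningMap σ (resN N ρ)) ∣ N.index := by
  haveI := finite_lift N σ 1
  haveI := actLift_irreducible N σ ρ hinv hdim
  have h := L.finrank_dvd_index_of_scalar (actLift N σ ρ) (N.comap (proj N σ 1)) (by
    intro x hx
    have hx' : x.1.1 ∈ N := hx
    have hxi : (x.1⁻¹ : G × (End ℂ W)ˣ) ∈ pairs N σ :=
      (pairs N σ).inv_mem (lift_le_pairs N σ 1 x.2)
    obtain ⟨c, hc⟩ := scalar_of_mem N σ hxi (N.inv_mem hx')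
    refine ⟨c, ?_⟩
    ext f w
    rw [IntertwiningMap.toLinearMap_apply, IntertwiningMap.toLinearMap_apply, actLift_apply]
    have hc' : ((x.1.2⁻¹ : (End ℂ W)ˣ) : End ℂ W) = c • σ ⟨x.1.1⁻¹, N.inv_mem hx'⟩ := hc
    rw [hc']
    simp only [LinearMap.smul_apply, map_smul, Module.End.one_apply, IntertwiningMap.smul_apply]
    congr 1
    rw [IntertwiningMap.isIntertwining σ (resN N ρ) f]
    change ρ x.1.1 (ρ x.1.1⁻¹ (f w)) = f w
    rw [← Module.End.mul_apply, ← map_mul, mul_inv_cancel, map_one, Module.End.one_apply])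
  rwa [Subgroup.index_comap_of_surjective _ (proj_surjective N σ hinv 1)] at h

end main

end Cfsg.Agent.H6.ProjLift
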