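import Mathlib
import Cfsg.Prelude.Def_Characters
import Cfsg.Agent.H6.ProjDeg
import Cfsg.Agent.H6.CliffCorr

/-! The inertia group, and the degree-ratio theorem in the invariant case. -/

set_option autoImplicit false

namespace Cfsg.Agent.H6

open Module Cfsg Cfsg.Agent.CharLib Representation

variable {G : Type*} [Group G] (N : Subgroup G) [hN : N.Normal]

/-- the inertia group of a function on a normal subgroup -/
def inertia (ϑ : N → ℂ) : Subgroup G where
  carrier := {g | ∀ n : N, ϑ (MulAut.conjNormal g n) = ϑ n}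
  one_mem' := by intro n; simp
  mul_mem' := by
    intro a b ha hb n
    rw [map_mul, MulAut.mul_apply, ha, hb]
  inv_mem' := by
    intro a ha n
    have h := ha (MulAut.conjNormal a⁻¹ n)
    rw [← MulAut.mul_apply, ← map_mul, mul_inv_cancel, map_one, MulAut.one_apply] at h
    exact h.symm

theorem mem_inertia_iff (ϑ : N → ℂ) (g : G) : g ∈ inertia N ϑ ↔
    ∀ n : N, ϑ ⟨g * n * g⁻¹, hN.conj_mem (n : G) n.2 g⟩ = ϑ n := Iff.rfl

theorem le_inertia {ϑ : N → ℂ} (hϑ : IsClassFunction N ϑ) : N ≤ inertia N ϑ := by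
  intro g hg n
  have := hϑ n ⟨g, hg⟩
  rw [← this]
  congr 1

/-- invariant case: the ramification divides the index -/
theorem mult_dvd_index_of_invariant [Fintype G] [Fintype N] {χ : G → ℂ}
    (hχ : IsIrrCharacter G χ) {ϑ : N → ℂ} (hϑ : IsIrrCharacter N ϑ)
    (hcon : classInner (fun n : N => χ n) ϑ ≠ 0)
    (hinv : ∀ (g : G) (n : N), ϑ ⟨g * n * g⁻¹, hN.conj_mem (n : G) n.2 g⟩ = ϑ n) :
    ∃ e : ℕ, e ∣ N.index ∧ (fun n : N => χ n) = (e : ℂ) • ϑ := by
  have hres := restrict_eq_smul_of_invariant N hN hχ hϑ hcon hinv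
  obtain ⟨a, ρ, hρ, rfl⟩ := hχ
  obtain ⟨b, σ, hσ, rfl⟩ := hϑ
  have he := classInner_char_eq_finrank σ (ProjLift.resN N ρ)
  have hch : (ProjLift.resN N ρ).character = fun n : N => ρ.character n := rfl
  rw [hch] at he
  rw [he] at hres
  refine ⟨_, ?_, hres⟩
  refine ProjLift.finrank_intertwining_dvd_index N σ ρ (fun g n => hinv g n) ?_
  have h1 := congrFun hres 1
  simp only [Pi.smul_apply, smul_eq_mul, OneMemClass.coe_one, Representation.char_one] at h1
  exact_mod_cast h1

end Cfsg.Agent.H6
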