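import Mathlib

/-!
# Groups of odd order of automorphisms of a Klein four subgroup
-/

set_option autoImplicit false

namespace Cfsg.Agent.H6.KleinAct

universe u

variable {G : Type u} [Group G]

local notation "C(" P ")" => Subgroup.centralizer (SetLike.coe P)
local notation "N(" P ")" => Subgroup.normalizer (SetLike.coe P)

theorem mem_centralizer_of_conj' {P : Subgroup G} {z : G} (hz : ∀ x ∈ P, z * x * z⁻¹ = x) :
    z ∈ C(P) := by
  rw [Subgroup.mem_centralizer_iff]
  intro x hx
  have := hz x hx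
  rw [mul_inv_eq_iff_eq_mul] at this
  exact this.symm

theorem mul_self_of_mem {P : Subgroup G} [IsKleinFour P] {x : G} (hx : x ∈ P) : x * x = 1 :=
  congrArg Subtype.val (IsKleinFour.mul_self (⟨x, hx⟩ : P))

theorem cases_of_mem {P : Subgroup G} [IsKleinFour P] {u v w : G} (hu : u ∈ P) (hv : v ∈ P)
    (hw : w ∈ P) (hu1 : u ≠ 1) (hv1 : v ≠ 1) (huv : u ≠ v) :
    w = 1 ∨ w = u ∨ w = v ∨ w = u * v := by
  by_cases h1 : w = 1
  · exact Or.inl h1
  by_cases h2 : w = u
  · exact Or.inr (Or.inl h2)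
  by_cases h3 : w = v
  · exact Or.inr (Or.inr (Or.inl h3))
  refine Or.inr (Or.inr (Or.inr ?_))
  have := IsKleinFour.eq_mul_of_ne_all (x := (⟨u, hu⟩ : P)) (y := ⟨v, hv⟩) (z := ⟨w, hw⟩)
    (fun h => hu1 (congrArg Subtype.val h)) (fun h => hv1 (congrArg Subtype.val h))
    (fun h => huv (congrArg Subtype.val h)) (fun h => h1 (congrArg Subtype.val h))
    (fun h => h2 (congrArg Subtype.val h)) (fun h => h3 (congrArg Subtype.val h))
  exact congrArg Subtype.val this

theorem mem_centralizer_of_fix_two {P : Subgroup G} [IsKleinFour P] {u v s : G} (hu : u ∈ P)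
    (hv : v ∈ P) (hu1 : u ≠ 1) (hv1 : v ≠ 1) (huv : u ≠ v) (hsu : s * u * s⁻¹ = u)
    (hsv : s * v * s⁻¹ = v) : s ∈ C(P) := by
  apply mem_centralizer_of_conj'
  intro x hx
  rcases cases_of_mem hu hv hx hu1 hv1 huv with rfl | rfl | rfl | rfl
  · simp
  · exact hsu
  · exact hsv
  · calc s * (u * v) * s⁻¹ = (s * u * s⁻¹) * (s * v * s⁻¹) := by group
      _ = u * v := by rw [hsu, hsv]

theorem exists_third {P : Subgroup G} [IsKleinFour P] {u : G} :
    ∃ v ∈ P, v ≠ 1 ∧ u ≠ v := by
  classical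
  by_contra hcon
  push Not at hcon
  have hfin : Finite P := Nat.finite_of_card_ne_zero (by rw [IsKleinFour.card_four]; norm_num)
  have hsub : (P : Set G) ⊆ {1, u} := by
    intro x hx
    by_cases hx1 : x = 1
    · left; exact hx1
    · right; exact (hcon x hx hx1).symm
  have h1 : (P : Set G).ncard ≤ 2 :=
    (Set.ncard_le_ncard hsub (Set.toFinite _)).trans
      ((Set.ncard_insert_le 1 {u}).trans (by rw [Set.ncard_singleton]))
  have h2 : (P : Set G).ncard = 4 := IsKleinFour.card_four (G := P)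
  omega

/-- An element normalizing `P` and fixing a nonidentity element of `P` has its square in the
centralizer. -/
theorem sq_mem_centralizer {P : Subgroup G} [IsKleinFour P] {t u : G} (ht : t ∈ N(P))
    (hu : u ∈ P) (hu1 : u ≠ 1) (htu : t * u * t⁻¹ = u) : t * t ∈ C(P) := by
  obtain ⟨v, hv, hv1, huv⟩ := exists_third (P := P) (u := u)
  have hw : t * v * t⁻¹ ∈ P := (Subgroup.mem_normalizer_iff.mp ht v).mp hv
  have hw1 : t * v * t⁻¹ ≠ 1 := fun h => hv1 (by simpa using h)
  have hwu : t * v * t⁻¹ ≠ u := by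
    intro h
    rw [← htu] at h
    exact huv (by simpa using h.symm)
  rcases cases_of_mem hu hv hw hu1 hv1 huv with h | h | h | h
  · exact absurd h hw1
  · exact absurd h hwu
  · exact Subgroup.mul_mem _ (mem_centralizer_of_fix_two hu hv hu1 hv1 huv htu h)
      (mem_centralizer_of_fix_two hu hv hu1 hv1 huv htu h)
  · apply mem_centralizer_of_fix_two hu hv hu1 hv1 huv
    · calc t * t * u * (t * t)⁻¹ = t * (t * u * t⁻¹) * t⁻¹ := by group
        _ = u := by rw [htu, htu]
    · calc t * t * v * (t * t)⁻¹ = t * (t * v * t⁻¹) * t⁻¹ := by group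
        _ = t * (u * v) * t⁻¹ := by rw [h]
        _ = (t * u * t⁻¹) * (t * v * t⁻¹) := by group
        _ = u * (u * v) := by rw [htu, h]
        _ = v := by rw [← mul_assoc, mul_self_of_mem hu, one_mul]

theorem klein_main [Finite G] {P T : Subgroup G} [IsKleinFour P] (hTN : T ≤ N(P))
    (hnd : ¬ 2 ∣ C(P).relIndex T) :
    (C(P).relIndex T = 1 ∨ C(P).relIndex T = 3) ∧
      (C(P).relIndex T = 3 → ∀ u ∈ P, ∀ u' ∈ P, u ≠ 1 → u' ≠ 1 → ∃ t ∈ T, t * u * t⁻¹ = u') := by
  classical
  let ψ : T →* MulAut P := P.normalizerMonoidHom.comp (Subgroup.inclusion hTN)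
  have hker : ψ.ker = C(P).subgroupOf T := by
    ext g
    rw [MonoidHom.mem_ker, Subgroup.mem_subgroupOf]
    have h1 : ψ g = 1 ↔ (Subgroup.inclusion hTN g) ∈ P.normalizerMonoidHom.ker := by
      rw [MonoidHom.mem_ker]; rfl
    rw [h1, Subgroup.normalizerMonoidHom_ker, Subgroup.mem_subgroupOf]
    rfl
  haveI hn : (C(P).subgroupOf T).Normal := hker ▸ MonoidHom.normal_ker ψ
  have hdvd : C(P).relIndex T ∣ 24 := by
    have hinj := QuotientGroup.kerLift_injective ψ
    have e := QuotientGroup.quotientMulEquivOfEq hker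
    have hinj2 : Function.Injective ((MulAut.toPerm P).comp (QuotientGroup.kerLift ψ)) := by
      intro a b hab
      apply hinj
      exact MulEquiv.toEquiv_injective hab
    have h1 := Subgroup.card_dvd_of_injective _ hinj2
    haveI : Fintype P := Fintype.ofFinite P
    rw [Nat.card_congr e.toEquiv, Nat.card_eq_fintype_card (α := Equiv.Perm P),
      Fintype.card_perm, IsKleinFour.card_four'] at h1
    exact h1
  have h13 : C(P).relIndex T = 1 ∨ C(P).relIndex T = 3 := by
    have hle := Nat.le_of_dvd (by norm_num) hdvd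
    generalize C(P).relIndex T = e at *
    interval_cases e <;> omega
  refine ⟨h13, fun h3 u hu u' hu' hu1 hu1' => ?_⟩
  obtain ⟨t, htT, htC⟩ : ∃ t ∈ T, t ∉ C(P) := by
    by_contra hcon
    push Not at hcon
    have : C(P).relIndex T = 1 := Subgroup.relIndex_eq_one.mpr hcon
    omega
  have hcube : ∀ s ∈ T, s * s * s ∈ C(P) := by
    intro s hs
    have := Subgroup.pow_index_mem (C(P).subgroupOf T) (⟨s, hs⟩ : T)
    have h4 : (C(P).subgroupOf T).index = 3 := h3
    rw [h4, Subgroup.mem_subgroupOf] at this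
    simpa [pow_succ] using this
  have hmove : ∀ s ∈ T, s ∉ C(P) → ∀ w ∈ P, w ≠ 1 → s * w * s⁻¹ ≠ w := by
    intro s hs hsC w hw hw1 hfix
    apply hsC
    have h1 := sq_mem_centralizer (hTN hs) hw hw1 hfix
    have h2 := hcube s hs
    have : s = (s * s)⁻¹ * (s * s * s) := by group
    rw [this]
    exact Subgroup.mul_mem _ (Subgroup.inv_mem _ h1) h2
  have ht2T : t * t ∈ T := T.mul_mem htT htT
  have ht2C : t * t ∉ C(P) := by
    intro h
    apply htC
    have : t = (t * t)⁻¹ * (t * t * t) := by group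
    rw [this]
    exact Subgroup.mul_mem _ (Subgroup.inv_mem _ h) (hcube t htT)
  have hconjP : ∀ s ∈ T, ∀ w ∈ P, s * w * s⁻¹ ∈ P := fun s hs w hw =>
    (Subgroup.mem_normalizer_iff.mp (hTN hs) w).mp hw
  set v := t * u * t⁻¹ with hv
  have hvP : v ∈ P := hconjP t htT u hu
  have hv1 : v ≠ 1 := fun h => hu1 (by simpa [hv] using h)
  have huv : u ≠ v := (hmove t htT htC u hu hu1).symm
  rcases cases_of_mem hu hvP hu' hu1 hv1 huv with h | h | h | h
  · exact absurd h hu1'
  · exact ⟨1, T.one_mem, by rw [h]; simp⟩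
  · exact ⟨t, htT, h.symm⟩
  · refine ⟨t * t, ht2T, ?_⟩
    have hwP : t * t * u * (t * t)⁻¹ ∈ P := hconjP _ ht2T u hu
    have hw1 : t * t * u * (t * t)⁻¹ ≠ 1 := fun h => hu1 (conj_eq_one_iff.mp h)
    have hwu : t * t * u * (t * t)⁻¹ ≠ u := hmove _ ht2T ht2C u hu hu1
    have hwv : t * t * u * (t * t)⁻¹ ≠ v := by
      have h5 : t * t * u * (t * t)⁻¹ = t * v * t⁻¹ := by rw [hv]; group
      rw [h5]
      exact hmove t htT htC v hvP hv1
    rcases cases_of_mem hu hvP hwP hu1 hv1 huv with h' | h' | h' | h'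
    · exact absurd h' hw1
    · exact absurd h' hwu
    · exact absurd h' hwv
    · rw [h', h]

end Cfsg.Agent.H6.KleinAct
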