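import Mathlib
import Cfsg.Prelude.Def_Characters
import Cfsg.Agent.H6.LinChar
import Cfsg.Agent.CharLib.Core

/-! The transfer of a homomorphism evaluated on an element all of whose conjugates lie in the
subgroup and have the same image. -/

set_option autoImplicit false

namespace Cfsg.Agent.H6

open Subgroup Subgroup.leftTransversals

theorem transfer_eq_pow_of_invariant {G A : Type*} [Group G] [CommGroup A] {H : Subgroup G}
    [H.FiniteIndex] (ν : H →* A) (n : G) (hnH : n ∈ H) (hn : ∀ g : G, g⁻¹ * n * g ∈ H)
    (hinv : ∀ g : G, ν ⟨g⁻¹ * n * g, hn g⟩ = ν ⟨n, hnH⟩) :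
    MonoidHom.transfer ν n = ν ⟨n, hnH⟩ ^ H.index := by
  classical
  letI := H.fintypeQuotientOfFiniteIndex
  rw [MonoidHom.transfer_def ν default n]
  unfold diff
  have hfix : ∀ q : G ⧸ H, n⁻¹ • q = q := by
    intro q
    induction q using QuotientGroup.induction_on with
    | H g =>
      rw [MulAction.Quotient.smul_coe, QuotientGroup.eq]
      have := H.inv_mem (H.inv_mem (hn g))
      simpa [mul_assoc] using hn g
  have key : ∀ q : G ⧸ H, ∀ h,
      ν ⟨(((default : H.LeftTransversal).2.leftQuotientEquiv q : G))⁻¹ *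
        ((n • (default : H.LeftTransversal)).2.leftQuotientEquiv q : G), h⟩ = ν ⟨n, hnH⟩ := by
    intro q h
    rw [← hinv ((default : H.LeftTransversal).2.leftQuotientEquiv q : G)]
    congr 2
    rw [smul_apply_eq_smul_apply_inv_smul, hfix, smul_eq_mul, mul_assoc]
  simp only [key]
  rw [Finset.prod_const, Finset.card_univ, Subgroup.index, Nat.card_eq_fintype_card]

end Cfsg.Agent.H6
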