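import Mathlib
import Cfsg.Agent.H6.TransferLin

/-! Extending an invariant homomorphism `M →* ℂˣ` from a normal subgroup: the subgroup of the
integers consisting of the exponents `k` for which the `k`-th power extends. -/

set_option autoImplicit false

namespace Cfsg.Agent.H6.LinExt

variable {Γ : Type*} [Group Γ] (M : Subgroup Γ) (lam : M →* ℂˣ)

/-- exponents `k` such that `lam ^ k` extends to the whole group -/
def extExp : AddSubgroup ℤ where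
  carrier := {k | ∃ μ : Γ →* ℂˣ, ∀ x : M, μ x = (lam x) ^ k}
  zero_mem' := ⟨1, by simp⟩
  add_mem' := by
    rintro a b ⟨μ, hμ⟩ ⟨ν, hν⟩
    exact ⟨μ * ν, fun x => by simp [hμ, hν, zpow_add]⟩
  neg_mem' := by
    rintro a ⟨μ, hμ⟩
    exact ⟨μ⁻¹, fun x => by simp [hμ]⟩

theorem mem_extExp {k : ℤ} : k ∈ extExp M lam ↔ ∃ μ : Γ →* ℂˣ, ∀ x : M, μ x = (lam x) ^ k := Iff.rfl

theorem index_mem_extExp [Finite Γ] [hM : M.Normal]
    (hinv : ∀ (g : Γ) (x : M), lam ⟨g⁻¹ * x * g, by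
      have := hM.conj_mem (x : Γ) x.2 g⁻¹; simpa using this⟩ = lam x)
    (P : Subgroup Γ) (hMP : M ≤ P) (ν : P →* ℂˣ) (hν : ∀ x : M, ν ⟨x, hMP x.2⟩ = lam x) :
    (P.index : ℤ) ∈ extExp M lam := by
  refine ⟨MonoidHom.transfer ν, fun x => ?_⟩
  have hmem : ∀ g : Γ, g⁻¹ * (x : Γ) * g ∈ M := fun g => by
    have := hM.conj_mem (x : Γ) x.2 g⁻¹; simpa using this
  rw [transfer_eq_pow_of_invariant ν (x : Γ) (hMP x.2) (fun g => hMP (hmem g)) (fun g => ?_), hν x,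
    zpow_natCast]
  rw [hν x, ← hinv g x]
  exact hν ⟨g⁻¹ * (x : Γ) * g, hmem g⟩

theorem mem_extExp_of_pow_eq_one {k : ℕ} (h : ∀ x : M, lam x ^ k = 1) : (k : ℤ) ∈ extExp M lam :=
  ⟨1, fun x => by rw [zpow_natCast, h x]; rfl⟩

theorem exists_ext_of_one_mem (h : (1 : ℤ) ∈ extExp M lam) :
    ∃ μ : Γ →* ℂˣ, ∀ x : M, μ x = lam x := by
  obtain ⟨μ, hμ⟩ := h
  exact ⟨μ, fun x => by rw [hμ, zpow_one]⟩

theorem one_mem_of_forall_prime (I : AddSubgroup ℤ)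
    (h : ∀ p : ℕ, p.Prime → ∃ m : ℕ, (m : ℤ) ∈ I ∧ Nat.Coprime m p) : (1 : ℤ) ∈ I := by
  obtain ⟨a, ha⟩ := Int.subgroup_cyclic I
  by_cases h1 : a.natAbs = 1
  · rcases Int.natAbs_eq a with h2 | h2
    · rw [h1] at h2
      rw [ha, h2]
      exact AddSubgroup.subset_closure rfl
    · rw [h1] at h2
      have : (-1 : ℤ) ∈ I := by
        rw [ha, h2]
        exact AddSubgroup.subset_closure rfl
      simpa using I.neg_mem this
  · exfalso
    obtain ⟨p, hp, hpa⟩ := Nat.exists_prime_and_dvd h1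
    obtain ⟨m, hm, hcop⟩ := h p hp
    rw [ha, AddSubgroup.mem_closure_singleton] at hm
    obtain ⟨k, hk⟩ := hm
    have h3 : (p : ℤ) ∣ m := by
      rw [← hk, smul_eq_mul]
      exact Dvd.dvd.mul_left (Int.natCast_dvd.mpr hpa) k
    have h4 : p ∣ m := by exact_mod_cast h3
    have h5 : p ∣ Nat.gcd m p := Nat.dvd_gcd h4 dvd_rfl
    rw [hcop] at h5
    exact hp.one_lt.ne' (Nat.dvd_one.mp h5)

theorem one_mem_of_coprime (I : AddSubgroup ℤ) {a b : ℕ} (ha : (a : ℤ) ∈ I) (hb : (b : ℤ) ∈ I)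
    (h : Nat.Coprime a b) : (1 : ℤ) ∈ I := by
  have h1 := Nat.gcd_eq_gcd_ab a b
  rw [h] at h1
  have h2 : (1 : ℤ) = (Nat.gcdA a b) • (a : ℤ) + (Nat.gcdB a b) • (b : ℤ) := by
    simp only [smul_eq_mul]
    rw [mul_comm _ (a : ℤ), mul_comm _ (b : ℤ)]
    exact_mod_cast h1
  rw [h2]
  exact I.add_mem (I.zsmul_mem ha _) (I.zsmul_mem hb _)

end Cfsg.Agent.H6.LinExt
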