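import Mathlib
import Cfsg.Prelude.Def_Characters
import Cfsg.Agent.H6.ProjLift
import Cfsg.Agent.H6.LinExt
import Cfsg.Agent.CharLib.EquivChar

/-! Extendibility of an invariant irreducible representation of a normal subgroup, translated to
extendibility of a homomorphism to `ℂˣ` on a finite cover. -/

set_option autoImplicit false

namespace Cfsg.Agent.H6.ProjLift

open Module Cfsg Cfsg.Agent.CharLib Representation

variable {G : Type*} [Group G] (N : Subgroup G) [hN : N.Normal]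
  {W : Type*} [AddCommGroup W] [Module ℂ W] (σ : Representation ℂ N W)
  [FiniteDimensional ℂ W] [hσ : σ.IsIrreducible]

section scalar

variable (P : Subgroup G) (hNP : N ≤ P) (τ : Representation ℂ P W)
  (hτ : ∀ n : N, τ ⟨n, hNP n.2⟩ = σ n)

include hτ in
theorem exists_scalar {x : G × (End ℂ W)ˣ} (hx : x ∈ pairs N σ) (h : x.1 ∈ P) :
    ∃ c : ℂ, (x.2 : End ℂ W) = c • τ ⟨x.1, h⟩ := by
  set g : P := ⟨x.1, h⟩ with hg
  obtain ⟨c, hc⟩ := exists_smul_of_commute σ ((x.2 : End ℂ W) * τ g⁻¹) (by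
    intro m
    have h1 := hx (MulAut.conjNormal x.1⁻¹ m)
    have h2 : MulAut.conjNormal x.1 (MulAut.conjNormal x.1⁻¹ m) = m := by
      rw [← MulAut.mul_apply, ← map_mul, mul_inv_cancel, map_one, MulAut.one_apply]
    rw [h2] at h1
    rw [← mul_assoc, ← h1, mul_assoc, mul_assoc, ← hτ m, ← hτ, ← map_mul, ← map_mul]
    congr 2
    apply Subtype.ext
    simp [hg, MulAut.conjNormal_apply])
  refine ⟨c, ?_⟩
  have : (x.2 : End ℂ W) = ((x.2 : End ℂ W) * τ g⁻¹) * τ g := by
    rw [mul_assoc, ← map_mul, inv_mul_cancel, map_one, mul_one]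
  rw [this, hc]
  simp

omit [FiniteDimensional ℂ W] in
include σ hσ in
theorem scalar_unique {g : P} {c c' : ℂ} (h : c • τ g = c' • τ g) : c = c' := by
  have hnt := ((isIrreducible_iff σ).mp hσ).1
  have h1 : (c - c') • τ g = 0 := by rw [sub_smul, h, sub_self]
  rcases smul_eq_zero.mp h1 with h2 | h2
  · exact sub_eq_zero.mp h2
  · exfalso
    have h3 : τ g * τ g⁻¹ = 1 := by rw [← map_mul, mul_inv_cancel, map_one]
    rw [h2, zero_mul] at h3
    exact zero_ne_one h3

variable (δ : G →* ℂˣ)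

/-- the scalar by which the second component differs from `τ` -/
noncomputable def scalarFun (x : P.comap (proj N σ δ)) : ℂ :=
  Classical.choose (exists_scalar N σ P hNP τ hτ (lift_le_pairs N σ δ x.1.2) x.2)

theorem scalarFun_spec (x : P.comap (proj N σ δ)) :
    (x.1.1.2 : End ℂ W) = scalarFun N σ P hNP τ hτ δ x • τ ⟨x.1.1.1, x.2⟩ :=
  Classical.choose_spec (exists_scalar N σ P hNP τ hτ (lift_le_pairs N σ δ x.1.2) x.2)

/-- the scalar as a homomorphism -/
noncomputable def scalarHom : P.comap (proj N σ δ) →* ℂˣ :=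
  MonoidHom.toHomUnits
    { toFun := scalarFun N σ P hNP τ hτ δ
      map_one' := by
        have h := scalarFun_spec N σ P hNP τ hτ δ 1
        have h1 : (⟨(1 : P.comap (proj N σ δ)).1.1.1, (1 : P.comap (proj N σ δ)).2⟩ : P) = 1 := rfl
        rw [h1] at h
        refine scalar_unique N σ P τ (g := 1) ?_
        rw [← h, one_smul, map_one]
        rfl
      map_mul' := by
        intro x y
        have hx := scalarFun_spec N σ P hNP τ hτ δ x
        have hy := scalarFun_spec N σ P hNP τ hτ δ y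
        have hxy := scalarFun_spec N σ P hNP τ hτ δ (x * y)
        refine scalar_unique N σ P τ (g := ⟨(x * y).1.1.1, (x * y).2⟩) ?_
        rw [← hxy]
        have h1 : (⟨(x * y).1.1.1, (x * y).2⟩ : P) = ⟨x.1.1.1, x.2⟩ * ⟨y.1.1.1, y.2⟩ := rfl
        have h2 : ((x * y).1.1.2 : End ℂ W) = (x.1.1.2 : End ℂ W) * (y.1.1.2 : End ℂ W) := rfl
        rw [h1, h2, hx, hy, map_mul, smul_mul_smul_comm] }

theorem scalarHom_spec (x : P.comap (proj N σ δ)) :
    (x.1.1.2 : End ℂ W) = ((scalarHom N σ P hNP τ hτ δ x : ℂˣ) : ℂ) • τ ⟨x.1.1.1, x.2⟩ :=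
  scalarFun_spec N σ P hNP τ hτ δ x

end scalar

variable (δ : G →* ℂˣ)

/-- the canonical homomorphism on the preimage of `N` -/
noncomputable def lamHom : N.comap (proj N σ δ) →* ℂˣ :=
  scalarHom N σ N le_rfl σ (fun _ => rfl) δ

theorem lamHom_spec (x : N.comap (proj N σ δ)) :
    (x.1.1.2 : End ℂ W) = ((lamHom N σ δ x : ℂˣ) : ℂ) • σ ⟨x.1.1.1, x.2⟩ :=
  scalarHom_spec N σ N le_rfl σ (fun _ => rfl) δ x

theorem lamHom_eq_of {x : N.comap (proj N σ δ)} {c : ℂˣ}
    (h : (x.1.1.2 : End ℂ W) = (c : ℂ) • σ ⟨x.1.1.1, x.2⟩) : lamHom N σ δ x = c := by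
  apply Units.ext
  refine scalar_unique N σ N σ (g := ⟨x.1.1.1, x.2⟩) ?_
  rw [← lamHom_spec, h]

instance comap_normal : (N.comap (proj N σ δ)).Normal := hN.comap _

theorem lamHom_invariant (g : lift N σ δ) (x : N.comap (proj N σ δ)) :
    lamHom N σ δ ⟨g⁻¹ * x * g, by
      have := (comap_normal N σ δ).conj_mem (x : lift N σ δ) x.2 g⁻¹; simpa using this⟩
      = lamHom N σ δ x := by
  apply lamHom_eq_of
  have hx := lamHom_spec N σ δ x
  have hg := (pairs N σ).inv_mem (lift_le_pairs N σ δ g.2) ⟨x.1.1.1, x.2⟩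
  change ((g.1.2⁻¹ : (End ℂ W)ˣ) : End ℂ W) * (x.1.1.2 : End ℂ W) * (g.1.2 : End ℂ W) = _
  rw [hx, mul_smul_comm, smul_mul_assoc]
  congr 1
  have hg' : ((g.1.2⁻¹ : (End ℂ W)ˣ) : End ℂ W) * σ ⟨x.1.1.1, x.2⟩ =
      σ (MulAut.conjNormal g.1.1⁻¹ ⟨x.1.1.1, x.2⟩) * ((g.1.2⁻¹ : (End ℂ W)ˣ) : End ℂ W) := hg
  rw [hg', mul_assoc, Units.inv_mul, mul_one]
  congr 1
  apply Subtype.ext
  simp only [MulAut.conjNormal_apply, inv_inv]
  rfl

variable [Finite G]

theorem index_mem_extExp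
    (hinv : ∀ (g : G) (n : N), σ.character (MulAut.conjNormal g n) = σ.character n)
    (P : Subgroup G) (hNP : N ≤ P) (τ : Representation ℂ P W)
    (hτ : ∀ n : N, τ ⟨n, hNP n.2⟩ = σ n) :
    (P.index : ℤ) ∈ LinExt.extExp (N.comap (proj N σ δ)) (lamHom N σ δ) := by
  haveI := finite_lift N σ δ
  have h := LinExt.index_mem_extExp (N.comap (proj N σ δ)) (lamHom N σ δ)
    (lamHom_invariant N σ δ) (P.comap (proj N σ δ)) (Subgroup.comap_mono hNP)
    (scalarHom N σ P hNP τ hτ δ) (by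
      intro x
      symm
      apply lamHom_eq_of
      have := scalarHom_spec N σ P hNP τ hτ δ ⟨x.1, Subgroup.comap_mono hNP x.2⟩
      rw [this, ← hτ])
  rwa [Subgroup.index_comap_of_surjective _ (proj_surjective N σ hinv δ)] at h

theorem exists_rep_of_hom
    (hinv : ∀ (g : G) (n : N), σ.character (MulAut.conjNormal g n) = σ.character n)
    (μ : lift N σ δ →* ℂˣ) (hμ : ∀ x : N.comap (proj N σ δ), μ x = lamHom N σ δ x) :
    ∃ σ' : Representation ℂ G W, ∀ n : N, σ' n = σ n := by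
  let R : lift N σ δ →* (End ℂ W)ˣ := MonoidHom.mk' (fun x => sc (μ x)⁻¹ * x.1.2) (by
    intro x y
    apply Units.ext
    simp only [map_mul, mul_inv_rev, Units.val_mul, sc_val, Subgroup.coe_mul, Prod.snd_mul]
    simp only [smul_mul_assoc, one_mul, mul_smul_comm, smul_smul])
  have hR : ∀ x, ((R x : (End ℂ W)ˣ) : End ℂ W) = (((μ x)⁻¹ : ℂˣ) : ℂ) • (x.1.2 : End ℂ W) := by
    intro x
    simp [R, sc_val]
  have hRN : ∀ x : lift N σ δ, ∀ h : x.1.1 ∈ N, ((R x : (End ℂ W)ˣ) : End ℂ W) = σ ⟨x.1.1, h⟩ := by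
    intro x h
    have h1 := lamHom_spec N σ δ ⟨x, h⟩
    rw [← hμ ⟨x, h⟩] at h1
    rw [hR, h1, smul_smul]
    simp
  have hker : (proj N σ δ).ker ≤ R.ker := by
    intro x hx
    have hx1 : x.1.1 = 1 := hx
    rw [MonoidHom.mem_ker]
    apply Units.ext
    rw [hRN x (by rw [hx1]; exact N.one_mem)]
    have : (⟨x.1.1, by rw [hx1]; exact N.one_mem⟩ : N) = 1 := Subtype.ext hx1
    rw [this, map_one]
    rfl
  have hsurj := proj_surjective N σ hinv δ
  let S : G →* (End ℂ W)ˣ := (proj N σ δ).liftOfRightInverse _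
    (Function.rightInverse_surjInv hsurj) ⟨R, hker⟩
  have hS : ∀ x, S (proj N σ δ x) = R x := fun x =>
    MonoidHom.liftOfRightInverse_comp_apply _ _ (Function.rightInverse_surjInv hsurj) ⟨R, hker⟩ x
  refine ⟨(Units.coeHom (End ℂ W)).comp S, fun n => ?_⟩
  obtain ⟨x, hx⟩ := hsurj (n : G)
  have hx' : x.1.1 = (n : G) := hx
  change ((S (n : G) : (End ℂ W)ˣ) : End ℂ W) = σ n
  rw [← hx, hS, hRN x (by rw [hx']; exact n.2)]
  congr 1
  exact Subtype.ext hx'

theorem exists_rep_of_one_mem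
    (hinv : ∀ (g : G) (n : N), σ.character (MulAut.conjNormal g n) = σ.character n)
    (h : (1 : ℤ) ∈ LinExt.extExp (N.comap (proj N σ δ)) (lamHom N σ δ)) :
    ∃ σ' : Representation ℂ G W, ∀ n : N, σ' n = σ n := by
  obtain ⟨μ, hμ⟩ := LinExt.exists_ext_of_one_mem _ _ h
  exact exists_rep_of_hom N σ δ hinv μ hμ

omit hN in
/-- an extension of an irreducible representation is irreducible with the right character -/
theorem isIrr_of_rep_ext (σ' : Representation ℂ G W) (h : ∀ n : N, σ' n = σ n) :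
    IsIrrCharacter G σ'.character ∧ ∀ n : N, σ'.character n = σ.character n := by
  constructor
  · apply isIrrCharacter_char
    rw [isIrreducible_iff] at hσ ⊢
    refine ⟨hσ.1, fun U hU => hσ.2 U fun n v hv => ?_⟩
    rw [← h n]
    exact hU _ v hv
  · intro n
    change LinearMap.trace ℂ W (σ' n) = LinearMap.trace ℂ W (σ n)
    rw [h n]

omit hN hσ in
/-- a character of `P ≥ N` restricting to the character of `σ` is afforded by a representation
restricting to `σ` -/
theorem exists_rep_of_char_ext (P : Subgroup G) (hNP : N ≤ P) {η : P → ℂ} (hη : IsCharacter P η)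
    (hres : ∀ n : N, η ⟨n, hNP n.2⟩ = σ.character n) :
    ∃ τ : Representation ℂ P W, ∀ n : N, τ ⟨n, hNP n.2⟩ = σ n := by
  obtain ⟨m, τ₀, rfl⟩ := hη
  let τN : Representation ℂ N (Fin m → ℂ) := MonoidHom.comp τ₀ (Subgroup.inclusion hNP)
  have hch : τN.character = σ.character := by
    funext n
    exact hres n
  obtain ⟨φ⟩ := H2.nonempty_equiv_of_char_eq τN σ hch
  refine ⟨transport τ₀ φ.toLinearEquiv, fun n => ?_⟩
  ext w
  rw [transport_apply]
  have := IntertwiningMap.isIntertwining τN σ φ.toIntertwiningMap n (φ.toLinearEquiv.symm w)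
  have h2 : φ.toLinearEquiv (τN n (φ.toLinearEquiv.symm w)) =
      σ n (φ.toLinearEquiv (φ.toLinearEquiv.symm w)) := this
  rw [LinearEquiv.apply_symm_apply] at h2
  exact h2

end Cfsg.Agent.H6.ProjLift
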