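import Mathlib

/-! A finite group with a nontrivial solvable quotient has a nontrivial homomorphism to `ℂˣ`. -/

set_option autoImplicit false

namespace Cfsg.Agent.H6

theorem exists_hom_of_solvable_quotient {G : Type*} [Group G] [Finite G] (N : Subgroup G)
    [N.Normal] (hsolv : Group.IsSolvable (G ⧸ N)) (hne : N ≠ ⊤) :
    ∃ F : G →* ℂˣ, N ≤ F.ker ∧ F.ker ≠ ⊤ := by
  classical
  have hnt : Nontrivial (G ⧸ N) := by
    rw [← Finite.one_lt_card_iff_nontrivial]
    have h1 : N.index ≠ 1 := fun h => hne (Subgroup.index_eq_one.mp h)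
    have h2 : N.index ≠ 0 := Subgroup.index_ne_zero_of_finite
    show 1 < N.index
    omega
  have h1 : commutator (G ⧸ N) < ⊤ := Group.IsSolvable.commutator_lt_top_of_nontrivial (G ⧸ N)
  have hnt2 : Nontrivial (Abelianization (G ⧸ N)) := by
    rw [← Finite.one_lt_card_iff_nontrivial]
    have h2 : (commutator (G ⧸ N)).index ≠ 1 := fun h => h1.ne (Subgroup.index_eq_one.mp h)
    have h3 : (commutator (G ⧸ N)).index ≠ 0 := Subgroup.index_ne_zero_of_finite
    show 1 < (commutator (G ⧸ N)).index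
    omega
  obtain ⟨a, ha⟩ := exists_ne (1 : Abelianization (G ⧸ N))
  obtain ⟨φ, hφ⟩ := CommGroup.exists_apply_ne_one_of_hasEnoughRootsOfUnity
    (Abelianization (G ⧸ N)) ℂ ha
  obtain ⟨q, rfl⟩ := QuotientGroup.mk_surjective a
  obtain ⟨g, rfl⟩ := QuotientGroup.mk_surjective q
  refine ⟨(φ.comp Abelianization.of).comp (QuotientGroup.mk' N), ?_, ?_⟩
  · intro n hn
    rw [MonoidHom.mem_ker, MonoidHom.comp_apply, QuotientGroup.mk'_apply,
      (QuotientGroup.eq_one_iff n).mpr hn, map_one]
  · intro htop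
    apply hφ
    have : g ∈ ((φ.comp Abelianization.of).comp (QuotientGroup.mk' N)).ker := by rw [htop]; trivial
    exact this

theorem isCyclic_quotient_ker {G : Type*} [Group G] [Finite G] (F : G →* ℂˣ) :
    IsCyclic (G ⧸ F.ker) := by
  apply isCyclic_of_subgroup_isDomain ((Units.coeHom ℂ).comp (QuotientGroup.kerLift F))
  intro a b hab
  exact QuotientGroup.kerLift_injective F (Units.ext hab)

end Cfsg.Agent.H6
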